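import Cfsg.Agent.H961.FC.C6Lift
import Cfsg.Agent.TitsThree.PQClass
import Cfsg.Agent.S0752

/-!
# S5764: similitudes, isometries and determinants (helper961)

* `simil` : an inner automorphism in `RB b` is induced by a similitude;
* `exists_isom` : unitary case: by an isometry;
* `det_isom_U` : `det y * τ (det y) = 1`; `det_isom_Sp` : `det y = 1`.
-/

set_option autoImplicit false

namespace Cfsg.Agent.H961.FC

open Cfsg.Agent.H198.FC Matrix

universe u v

variable {K : Type u} [Field K] {V : Type v} [AddCommGroup V] [Module K V] (b : Cl K V)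

theorem exists_B_ne [Nontrivial V] : ∃ v w, b.B v w ≠ 0 := by
  obtain ⟨v, hv⟩ := exists_ne (0 : V)
  by_contra hcon
  push Not at hcon
  exact hv (b.nondeg v (hcon v))

/-- the rank one map `v ↦ B(v, s) t` -/
def rk (s t : V) : R K V where
  toFun v := b.B v s • t
  map_add' v w := by rw [b.add_left, add_smul]
  map_smul' a v := by rw [b.smul_left, mul_smul]; rfl

/-- the rank one map `w ↦ τ B(t, w) s` -/
def rk' (s t : V) : R K V where
  toFun w := b.τ (b.B t w) • s
  map_add' v w := by rw [b.add_right, map_add, add_smul]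
  map_smul' a v := by rw [b.smul_right, map_mul, b.invol, mul_smul]; rfl

theorem rk_adj (s t : V) : b.Adj (rk b s t) (rk' b s t) := by
  intro v w
  show b.B (b.B v s • t) w = b.B v (b.τ (b.B t w) • s)
  rw [b.smul_left, b.smul_right, b.invol, mul_comm]

theorem units_inv_apply (y : (R K V)ˣ) (v : V) : ((y⁻¹ : (R K V)ˣ) : R K V) ((y : R K V) v) = v := by
  rw [← Module.End.mul_apply, ← Units.val_mul, inv_mul_cancel, Units.val_one, Module.End.one_apply]

theorem units_apply_inv (y : (R K V)ˣ) (v : V) : (y : R K V) (((y⁻¹ : (R K V)ˣ) : R K V) v) = v := by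
  rw [← Module.End.mul_apply, ← Units.val_mul, mul_inv_cancel, Units.val_one, Module.End.one_apply]

/-- an inner automorphism in `RB b` is induced by a similitude -/
theorem simil [Nontrivial V] {y : (R K V)ˣ} (hy : cj K V y ∈ RB b) :
    ∃ μ : K, μ ≠ 0 ∧ ∀ v w, b.B ((y : R K V) v) ((y : R K V) w) = μ * b.B v w := by
  have key : ∀ v s t w, b.B v s * b.B ((y : R K V) t) ((y : R K V) w) =
      b.B t w * b.B ((y : R K V) v) ((y : R K V) s) := by
    intro v s t w
    have h1 := (hy.2 _ _).1 (rk_adj b s t) ((y : R K V) v) ((y : R K V) w)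
    rw [cj_apply, cj_apply] at h1
    simp only [Module.End.mul_apply, units_inv_apply] at h1
    have h2 : (rk b s t) v = b.B v s • t := rfl
    have h3 : (rk' b s t) w = b.τ (b.B t w) • s := rfl
    rw [h2, h3, map_smul, map_smul, b.smul_left, b.smul_right, b.invol] at h1
    exact h1
  obtain ⟨v, s, hvs⟩ := exists_B_ne b
  have h1 : ∀ t w, b.B ((y : R K V) t) ((y : R K V) w) =
      (b.B ((y : R K V) v) ((y : R K V) s) / b.B v s) * b.B t w := by
    intro t w
    rw [div_mul_eq_mul_div, eq_div_iff hvs]
    linear_combination key v s t w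
  refine ⟨_, ?_, h1⟩
  intro h0
  apply hvs
  have h2 := h1 (((y⁻¹ : (R K V)ˣ) : R K V) v) (((y⁻¹ : (R K V)ˣ) : R K V) s)
  rw [units_apply_inv, units_apply_inv, h0, zero_mul] at h2
  exact h2

/-- unitary case: isometric lifts -/
theorem exists_isom [Finite K] [Module.Finite K V] [Nontrivial V] (hU : b.IsU) {y : (R K V)ˣ} (hy : cj K V y ∈ RB b) :
    ∃ y' : (R K V)ˣ, b.Isom y' ∧ cj K V y' = cj K V y := by
  obtain ⟨μ, hμ, h⟩ := simil b hy
  obtain ⟨v, s, hvs⟩ := exists_B_ne b
  have h1 : b.τ μ = μ := by
    have h2 := hU.2 ((y : R K V) v) ((y : R K V) s)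
    rw [h, h, map_mul, ← hU.2 v s] at h2
    have h3 : b.B s v ≠ 0 := by
      intro h0
      apply hvs
      rw [hU.2 s v, h0, map_zero]
    exact (mul_right_cancel₀ h3 h2).symm
  obtain ⟨l, hl⟩ := Cfsg.Agent.TitsThree.PQClass.norm_surj b.τ b.invol hU.1 h1
  have hl0 : l ≠ 0 := by
    rintro rfl
    rw [zero_mul] at hl
    exact hμ hl.symm
  refine ⟨smulU (Units.mk0 l hl0)⁻¹ y, fun v w => ?_, cj_smulU _ _⟩
  show b.B (l⁻¹ • (y : R K V) v) (l⁻¹ • (y : R K V) w) = _
  rw [b.smul_left, b.smul_right, h, map_inv₀, ← hl]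
  have h2 : b.τ l ≠ 0 := by
    intro h0
    apply hl0
    rw [← b.invol l, h0, map_zero]
  field_simp

/-- `w ↦ B(w, v)` -/
def toDual (v : V) : Module.Dual K V where
  toFun w := b.B w v
  map_add' w w' := b.add_left w w' v
  map_smul' a w := b.smul_left a w v

theorem B_zero_comm {v w : V} (h : b.B v w = 0) : b.B w v = 0 := by
  rcases b.typ with ⟨-, h1⟩ | ⟨-, h1⟩
  · rw [h1, h, map_zero]
  · have h2 := h1 (v + w)
    rw [b.add_left, b.add_right, b.add_right, h1, h1, h] at h2
    simpa using h2

theorem toDual_bij [Finite K] [Module.Finite K V] : Function.Bijective (toDual b) := by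
  have hinj : Function.Injective (toDual b) := by
    intro v v' h
    rw [← sub_eq_zero]
    apply b.nondeg
    intro w
    apply B_zero_comm
    have h1 : b.B w v = b.B w v' := DFunLike.congr_fun h w
    have h2 : b.B w (v - v') + b.B w v' = b.B w v := by rw [← b.add_right, sub_add_cancel]
    rw [h1] at h2
    simpa using h2
  have : Finite V := Module.finite_of_finite K
  have : Finite (Module.Dual K V) := Module.finite_of_finite K
  refine hinj.bijective_of_nat_card_le ?_
  rw [Module.natCard_eq_pow_finrank (K := K) (V := V), Module.natCard_eq_pow_finrank (K := K) (V := Module.Dual K V),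
    Subspace.dual_finrank_eq]

/-- `det y * τ (det y) = 1` for isometries -/
theorem det_isom [Finite K] [Module.Finite K V] {y : (R K V)ˣ} (hy : b.Isom y) :
    LinearMap.det (y : R K V) * b.τ (LinearMap.det (y : R K V)) = 1 := by
  let g : V ≃+ Module.Dual K V := AddEquiv.ofBijective
    ({ toFun := toDual b
       map_zero' := by
         ext w
         have h := b.add_right w 0 0
         rw [add_zero] at h
         show b.B w 0 = 0
         simpa using h
       map_add' := fun v v' => by
         ext w
         exact b.add_right w v v' } : V →+ Module.Dual K V) (toDual_bij b)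
  have hgv : ∀ v w, g v w = b.B w v := fun _ _ => rfl
  have h1 := det_semi b.τ g (fun a v => by
    ext w
    exact b.smul_right a w v) (y : R K V) (((y⁻¹ : (R K V)ˣ) : R K V).dualMap) (fun v => by
    ext w
    rw [LinearMap.dualMap_apply, hgv, hgv, ← hy, units_apply_inv])
  rw [LinearMap.det_dualMap] at h1
  rw [← h1, ← map_mul, Units.mul_inv, map_one]

/-- symplectic isometries have determinant `1` -/
theorem det_isom_Sp [Module.Finite K V] (hS : b.IsSp) {y : (R K V)ˣ} (hy : b.Isom y) :
    LinearMap.det (y : R K V) = 1 := by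
  classical
  let B : LinearMap.BilinForm K V := LinearMap.mk₂ K b.B b.add_left (fun a v w => b.smul_left a v w) b.add_right
    (fun a v w => by rw [b.smul_right, hS.1]; rfl)
  have hBA : B.IsAlt := fun v => hS.2 v
  obtain ⟨m, k, e, h1, h2, h3, h4⟩ := Cfsg.Agent.S0752.result B hBA
  have hk : k = 0 := by
    rcases Nat.eq_zero_or_pos k with h | h
    · exact h
    · exact absurd (b.nondeg _ (h4 ⟨0, h⟩)) (e.ne_zero _)
  subst hk
  let e' : Module.Basis (Fin m ⊕ Fin m) K V := e.reindex (Equiv.sumEmpty (Fin m ⊕ Fin m) (Fin 0))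
  have he' : ∀ i, e' i = e (Sum.inl i) := by
    intro i
    simp [e']
  have hG : LinearMap.toMatrix₂ e' e' B = - Matrix.J (Fin m) K := by
    ext i j
    rw [LinearMap.toMatrix₂_apply, he', he', Matrix.J]
    rcases i with i | i <;> rcases j with j | j
    · simp [h2]
    · simp [h1, Matrix.one_apply]
    · rw [← hBA.neg_eq, h1]
      simp [Matrix.one_apply, eq_comm]
    · simp [h3]
  have hc : B.compl₁₂ (y : R K V) (y : R K V) = B := by
    ext v w
    exact hy v w
  have h5 := LinearMap.toMatrix₂_compl₁₂ e' e' e' e' B (y : R K V) (y : R K V)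
  rw [hc, hG] at h5
  have h6 : LinearMap.toMatrix e' e' (y : R K V) ∈ Matrix.symplecticGroup (Fin m) K := by
    rw [SymplecticGroup.mem_iff']
    simpa using h5.symm
  rw [← LinearMap.det_toMatrix e']
  exact SymplecticGroup.det_eq_one h6

end Cfsg.Agent.H961.FC
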