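import Mathlib
import Cfsg.Agent.H578.Base3

/-!
# S5764, L-C6mt: three elements of a minimal normal abelian subgroup with small centralizer (helper961)
-/

set_option autoImplicit false

namespace Cfsg.Agent.H961.FC

universe u

/-- `A` a minimal normal subgroup (abelian) of the solvable group `S`: some three elements of `A` have the same
centralizer in `S` as `A`. -/
theorem exists_three {P : Type u} [Group P] (S A : Subgroup P) [Finite S] (hS : Group.IsSolvable S) (hAS : A ≤ S)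
    (hab : ∀ f ∈ A, ∀ g ∈ A, f * g = g * f) (hn : ∀ g ∈ S, ∀ f ∈ A, g * f * g⁻¹ ∈ A)
    (hmin : ∀ B : Subgroup P, B ≤ A → (∀ g ∈ S, ∀ f ∈ B, g * f * g⁻¹ ∈ B) → B = ⊥ ∨ B = A) :
    ∃ v₁ ∈ A, ∃ v₂ ∈ A, ∃ v₃ ∈ A, ∀ f ∈ S, f * v₁ = v₁ * f → f * v₂ = v₂ * f → f * v₃ = v₃ * f →
      ∀ g ∈ A, f * g = g * f := by
  let N : Subgroup S := A.subgroupOf S
  have hN : N.Normal := ⟨fun f hf g => hn g g.2 f hf⟩
  let cg : CommGroup N :=
    { (inferInstance : Group N) with
      mul_comm := fun f g => Subtype.ext (Subtype.ext (hab _ f.2 _ g.2)) }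
  let φ : S →* MulAut N := MulAut.conjNormal
  have hφ : ∀ (s : S) (x : N), ((φ s x : N) : S) = s * x * s⁻¹ := fun s x => MulAut.conjNormal_apply s x
  let Q := φ.range
  let act : DistribMulAction Q (Additive N) :=
    { smul := fun q x => Additive.ofMul ((q : MulAut N) x.toMul)
      one_smul := fun _ => rfl
      mul_smul := fun _ _ _ => rfl
      smul_zero := fun q => map_one (q : MulAut N)
      smul_add := fun q x y => map_mul (q : MulAut N) x.toMul y.toMul }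
  have hsm : ∀ (q : Q) (x : Additive N), q • x = Additive.ofMul ((q : MulAut N) x.toMul) := fun _ _ => rfl
  have hfa : FaithfulSMul Q (Additive N) := ⟨fun {q q'} h => Subtype.ext (MulEquiv.ext fun x => h (Additive.ofMul x))⟩
  have hQ : Group.IsSolvable Q := Group.isSolvable_of_surjective (f := φ.rangeRestrict) φ.rangeRestrict_surjective
  have hcr : ∀ U : AddSubgroup (Additive N), (∀ a : Q, ∀ v ∈ U, a • v ∈ U) →
      ∃ W : AddSubgroup (Additive N), (∀ a : Q, ∀ w ∈ W, a • w ∈ W) ∧ U ⊓ W = ⊥ ∧ U ⊔ W = ⊤ := by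
    intro U hU
    let B : Subgroup P := (AddSubgroup.toSubgroup' U).map (S.subtype.comp N.subtype)
    have hmB : ∀ x : P, x ∈ B ↔ ∃ y : N, Additive.ofMul y ∈ U ∧ ((y : S) : P) = x := fun x => Iff.rfl
    have hB : B ≤ A := by
      intro x hx
      obtain ⟨y, -, rfl⟩ := (hmB x).1 hx
      exact y.2
    have hBn : ∀ g ∈ S, ∀ f ∈ B, g * f * g⁻¹ ∈ B := by
      intro g hg f hf
      obtain ⟨y, hy, rfl⟩ := (hmB f).1 hf
      rw [hmB]
      exact ⟨φ ⟨g, hg⟩ y, hU ⟨φ ⟨g, hg⟩, ⟨g, hg⟩, rfl⟩ _ hy, by rw [hφ]; rfl⟩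
    rcases hmin B hB hBn with h | h
    · refine ⟨⊤, fun _ _ _ => trivial, ?_, ?_⟩
      · rw [inf_top_eq, eq_bot_iff]
        intro x hx
        have h1 : (((x.toMul : N) : S) : P) ∈ B := (hmB _).2 ⟨x.toMul, hx, rfl⟩
        rw [h, Subgroup.mem_bot] at h1
        rw [AddSubgroup.mem_bot]
        have h2 : x.toMul = 1 := Subtype.ext (Subtype.ext h1)
        exact h2
      · exact sup_top_eq U
    · refine ⟨⊥, ?_, inf_bot_eq U, ?_⟩
      · intro a w hw
        rw [AddSubgroup.mem_bot] at hw ⊢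
        rw [hw, smul_zero]
      · rw [sup_bot_eq, eq_top_iff]
        intro x _
        have h1 : (((x.toMul : N) : S) : P) ∈ B := h ▸ (show (((x.toMul : N) : S) : P) ∈ A from x.toMul.2)
        obtain ⟨y, hy, hyx⟩ := (hmB _).1 h1
        have h2 : y = x.toMul := Subtype.ext (Subtype.ext hyx)
        rw [h2] at hy
        exact hy
  obtain ⟨v₁, v₂, v₃, hv⟩ := Cfsg.Agent.H578.base3 hQ hcr
  have key : ∀ (f : P) (hf : f ∈ S) (v : Additive N), f * ((v.toMul : N) : S) = ((v.toMul : N) : S) * f →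
      (⟨φ ⟨f, hf⟩, ⟨f, hf⟩, rfl⟩ : Q) • v = v := by
    intro f hf v h
    rw [hsm]
    have h2 : φ ⟨f, hf⟩ v.toMul = v.toMul := by
      apply Subtype.ext
      apply Subtype.ext
      rw [hφ]
      show f * (((v.toMul : N) : S) : P) * f⁻¹ = _
      rw [h, mul_inv_cancel_right]
    exact h2
  refine ⟨_, v₁.toMul.2, _, v₂.toMul.2, _, v₃.toMul.2, fun f hf h1 h2 h3 g hg => ?_⟩
  have h4 := hv _ (key f hf v₁ h1) (key f hf v₂ h2) (key f hf v₃ h3)
  have h5 : φ ⟨f, hf⟩ = 1 := congrArg Subtype.val h4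
  have h6 := hφ ⟨f, hf⟩ ⟨⟨g, hAS hg⟩, hg⟩
  rw [h5] at h6
  have h7 : g = f * g * f⁻¹ := congrArg Subtype.val h6
  conv_rhs => rw [h7]
  rw [inv_mul_cancel_right]

end Cfsg.Agent.H961.FC
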