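import Cfsg.Agent.H961.FC.C6Str

/-!
# S5764, L-C6mt: the elements of `A` lift to `SL(V)` (helper961)

* `det_semi` : determinants and semilinear bijections;
* `conj_det` : elements of `RA` normalize the image of `SL(V)`;
* `lift_SL` : the elements of `A` lift to `SL(V)`;
* `five_of` : **L-C6mt**.
-/

set_option autoImplicit false

namespace Cfsg.Agent.H961.FC

open Cfsg.Agent.H198.FC

universe u v w

section det

variable {K : Type u} [Field K] {V : Type v} [AddCommGroup V] [Module K V] [Module.Finite K V]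
  {W : Type w} [AddCommGroup W] [Module K W]

theorem det_semi (σ : K ≃+* K) (g : V ≃+ W) (hg : ∀ (a : K) (v : V), g (a • v) = σ a • g v) (X : Module.End K V)
    (Y : Module.End K W) (h : ∀ v, Y (g v) = g (X v)) : LinearMap.det Y = σ (LinearMap.det X) := by
  classical
  set b := Module.finBasis K V with hb
  have hgs : ∀ (c : Fin (Module.finrank K V) → K), g (∑ i, c i • b i) = ∑ i, σ (c i) • g (b i) := by
    intro c
    rw [map_sum]
    exact Finset.sum_congr rfl fun i _ => hg _ _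
  have hli : LinearIndependent K (fun i => g (b i)) := by
    rw [Fintype.linearIndependent_iff]
    intro c hc i
    have h1 : g (∑ i, σ.symm (c i) • b i) = 0 := by
      rw [hgs, ← hc]
      exact Finset.sum_congr rfl fun i _ => by rw [RingEquiv.apply_symm_apply]
    have h2 : ∑ i, σ.symm (c i) • b i = 0 := by
      apply g.injective
      rw [h1, map_zero]
    have h3 := Fintype.linearIndependent_iff.1 b.linearIndependent _ h2 i
    simpa using h3
  have hsp : ⊤ ≤ Submodule.span K (Set.range fun i => g (b i)) := by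
    intro w _
    obtain ⟨v, rfl⟩ := g.surjective w
    rw [← b.sum_repr v, hgs]
    exact Submodule.sum_mem _ fun i _ => Submodule.smul_mem _ _ (Submodule.subset_span ⟨i, rfl⟩)
  let b' := Module.Basis.mk hli hsp
  have hb' : ∀ i, b' i = g (b i) := fun i => Module.Basis.mk_apply hli hsp i
  have hM : LinearMap.toMatrix b' b' Y = (LinearMap.toMatrix b b X).map σ := by
    ext i j
    rw [LinearMap.toMatrix_apply, Matrix.map_apply, LinearMap.toMatrix_apply, hb', h]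
    have h1 : g (X (b j)) = ∑ k, σ (b.repr (X (b j)) k) • b' k := by
      conv_lhs => rw [← b.sum_repr (X (b j))]
      rw [hgs]
      exact Finset.sum_congr rfl fun k _ => by rw [hb']
    rw [h1, b'.repr_sum_self]
  rw [← LinearMap.det_toMatrix b' Y, hM, ← LinearMap.det_toMatrix b X]
  exact (RingHom.map_det (σ : K →+* K) _).symm

end det

section

variable {K : Type u} [Field K] {V : Type v} [AddCommGroup V] [Module K V] [Module.Finite K V]

omit [Module.Finite K V] in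
/-- conjugation of `cj y` by a ring automorphism -/
theorem conj_RP {f : Equiv.Perm (R K V)} (hf : f ∈ RP K V) (y : (R K V)ˣ) :
    ∃ y' : (R K V)ˣ, (y' : R K V) = f y ∧ ((y'⁻¹ : (R K V)ˣ) : R K V) = f ((y⁻¹ : (R K V)ˣ) : R K V) ∧
      f * cj K V y * f⁻¹ = cj K V y' := by
  have h1 : f 1 = 1 := by
    have h2 : f 1 * f (f⁻¹ 1) = f (f⁻¹ 1) := by rw [← hf.2, one_mul]
    simpa using h2
  let y' : (R K V)ˣ := ⟨f y, f ((y⁻¹ : (R K V)ˣ) : R K V), by rw [← hf.2, Units.mul_inv, h1],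
    by rw [← hf.2, Units.inv_mul, h1]⟩
  refine ⟨y', rfl, rfl, Equiv.ext fun X => ?_⟩
  show f ((y : R K V) * f⁻¹ X * ((y⁻¹ : (R K V)ˣ) : R K V)) = f y * X * f ((y⁻¹ : (R K V)ˣ) : R K V)
  rw [hf.2, hf.2]
  simp

omit [Module.Finite K V] in
/-- conjugation of `cj y` by a ring anti-automorphism -/
theorem conj_RA {f : Equiv.Perm (R K V)} (hf : ∀ X Y : R K V, f (X * Y) = f Y * f X) (y : (R K V)ˣ) :
    ∃ y' : (R K V)ˣ, (y' : R K V) = f ((y⁻¹ : (R K V)ˣ) : R K V) ∧ f * cj K V y * f⁻¹ = cj K V y' := by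
  have h1 : f 1 = 1 := by
    have h2 : f (f⁻¹ 1) * f 1 = f (f⁻¹ 1) := by rw [← hf, one_mul]
    simpa using h2
  let y' : (R K V)ˣ := ⟨f ((y⁻¹ : (R K V)ˣ) : R K V), f y, by rw [← hf, Units.mul_inv, h1],
    by rw [← hf, Units.inv_mul, h1]⟩
  refine ⟨y', rfl, Equiv.ext fun X => ?_⟩
  show f ((y : R K V) * f⁻¹ X * ((y⁻¹ : (R K V)ˣ) : R K V)) = f ((y⁻¹ : (R K V)ˣ) : R K V) * X * f y
  rw [hf, hf]
  simp [mul_assoc]

/-- elements of `RP` preserve the determinants up to a field automorphism -/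
theorem det_RP (hSN : StmtSN.{u, v}) (hV : 1 ≤ Module.finrank K V) {f : Equiv.Perm (R K V)} (hf : f ∈ RP K V) :
    ∃ σ : K ≃+* K, ∀ X : R K V, LinearMap.det (f X) = σ (LinearMap.det X) := by
  obtain ⟨g, ⟨hg0, σ, hg⟩, hgf⟩ := hSN K V hV f hf
  refine ⟨σ, fun X => ?_⟩
  let g' : V ≃+ V := { g with map_add' := hg0 }
  exact det_semi σ g' hg X (f X) (hgf X)

/-- anti-automorphisms preserve the determinants up to a field automorphism -/
theorem det_RA (hSNc : StmtSNcor.{u, v}) (hV : 1 ≤ Module.finrank K V) {f : Equiv.Perm (R K V)} (hf : f ∈ RA K V)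
    (hf' : ∀ X Y : R K V, f (X * Y) = f Y * f X) :
    ∃ σ : K ≃+* K, ∀ X : R K V, LinearMap.det (f X) = σ (LinearMap.det X) := by
  obtain ⟨σ, g, hg, hgf⟩ := hSNc K V hV f hf hf'
  refine ⟨σ, fun X => ?_⟩
  rw [← LinearMap.det_dualMap]
  refine det_semi σ g hg X _ fun v => ?_
  ext w
  rw [hgf]
  rfl

/-- elements of `RA` normalize the image of `SL(V)` -/
theorem conj_det (hSN : StmtSN.{u, v}) (hSNc : StmtSNcor.{u, v}) (hV : 1 ≤ Module.finrank K V)
    {f : Equiv.Perm (R K V)} (hf : f ∈ RA K V) {y : (R K V)ˣ} (hy : LinearMap.det (y : R K V) = 1) :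
    ∃ y' : (R K V)ˣ, LinearMap.det (y' : R K V) = 1 ∧ f * cj K V y * f⁻¹ = cj K V y' := by
  rcases hf.2 with h | h
  · obtain ⟨σ, hσ⟩ := det_RP hSN hV ⟨hf.1, h⟩
    obtain ⟨y', h1, -, h2⟩ := conj_RP ⟨hf.1, h⟩ y
    exact ⟨y', by rw [h1, hσ, hy, map_one], h2⟩
  · obtain ⟨σ, hσ⟩ := det_RA hSNc hV hf h
    obtain ⟨y', h1, h2⟩ := conj_RA h y
    refine ⟨y', ?_, h2⟩
    rw [h1, hσ]
    have h3 : LinearMap.det ((y⁻¹ : (R K V)ˣ) : R K V) = 1 := by
      have h4 : LinearMap.det (y : R K V) * LinearMap.det ((y⁻¹ : (R K V)ˣ) : R K V) = 1 := by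
        rw [← map_mul, Units.mul_inv, map_one]
      rwa [hy, one_mul] at h4
    rw [h3, map_one]

end

section cyclic

theorem ker_map_ne_bot {U P C : Type*} [Group U] [Group P] [Group C] [IsCyclic C] (c : U →* P) (φ : U →* C)
    (h : ¬ IsCyclic c.range) : φ.ker.map c ≠ ⊥ := by
  intro hbot
  apply h
  obtain ⟨⟨g, u, hu⟩, hg⟩ := IsCyclic.exists_generator (α := φ.range)
  refine ⟨⟨⟨c u, u, rfl⟩, ?_⟩⟩
  rintro ⟨-, y, rfl⟩
  obtain ⟨k, hk⟩ := hg ⟨φ y, y, rfl⟩
  have hk' : g ^ k = φ y := congrArg Subtype.val hk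
  have h1 : y * (u ^ k)⁻¹ ∈ φ.ker := by
    rw [MonoidHom.mem_ker, map_mul, map_inv, map_zpow, hu, hk', mul_inv_cancel]
  have h2 : c (y * (u ^ k)⁻¹) ∈ φ.ker.map c := ⟨_, h1, rfl⟩
  rw [hbot, Subgroup.mem_bot, map_mul, map_inv, map_zpow, mul_inv_eq_one] at h2
  exact ⟨k, Subtype.ext h2.symm⟩

variable {K : Type u} [Field K] {V : Type v} [AddCommGroup V] [Module K V]
  {S A : Subgroup (Equiv.Perm (R K V))} {r a : ℕ}

theorem not_cyclic (hD : C6Data S A r a) : ¬ IsCyclic A := by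
  intro h
  have h1 : Nat.card A = r ^ (2 * a) := hD.2.2.2.2.2.1
  have hr := hD.1
  obtain ⟨g, hg⟩ := IsCyclic.exists_generator (α := A)
  have h2 : orderOf g = Nat.card A := orderOf_eq_card_of_forall_mem_zpowers hg
  have h3 : orderOf g ∣ r := orderOf_dvd_of_pow_eq_one (Subtype.ext (hD.2.2.2.2.2.2.1 g g.2))
  rw [h2, h1] at h3
  have h4 := Nat.le_of_dvd hr.pos h3
  have h5 : r ^ 2 ≤ r ^ (2 * a) := Nat.pow_le_pow_right hr.pos (by have := hD.2.1; omega)
  have h6 := hr.two_le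
  nlinarith

/-- lifts by means of a homomorphism to a cyclic group -/
theorem lift_generic (hD : C6Data S A r a) (Γ : Subgroup (R K V)ˣ)
    (hΓ : ∀ f ∈ S, ∀ y ∈ Γ, ∃ y' ∈ Γ, f * cj K V y * f⁻¹ = cj K V y') {U C : Type*} [Group U] [Group C] [IsCyclic C]
    (c : U →* Equiv.Perm (R K V)) (hc : c.range = A) (φ : U →* C) (hφ : ∀ u, φ u = 1 → ∃ y ∈ Γ, cj K V y = c u) :
    ∀ f ∈ A, ∃ y ∈ Γ, cj K V y = f := by
  have h1 : φ.ker.map c ≠ ⊥ := ker_map_ne_bot c φ (by rw [hc]; exact not_cyclic hD)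
  have hn := hD.2.2.2.2.2.2.2.2.2.1
  rcases hD.2.2.2.2.2.2.2.2.2.2 (Γ.map (cj K V) ⊓ A) inf_le_right (by
    rintro g hg f ⟨⟨y, hy, rfl⟩, hfA⟩
    refine ⟨?_, hn g hg _ hfA⟩
    obtain ⟨y', hy', h⟩ := hΓ g hg y hy
    rw [h]
    exact ⟨y', hy', rfl⟩) with h2 | h2
  · exfalso
    apply h1
    rw [eq_bot_iff, ← h2]
    rintro - ⟨u, hu, rfl⟩
    obtain ⟨y, hy, hyu⟩ := hφ u hu
    exact ⟨⟨y, hy, hyu⟩, hc ▸ ⟨u, rfl⟩⟩
  · intro f hf
    rw [← h2] at hf
    exact hf.1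

end cyclic

section

variable {K : Type u} [Field K] [Finite K] {V : Type v} [AddCommGroup V] [Module K V] [Module.Finite K V]
  {S A : Subgroup (Equiv.Perm (R K V))} {r a : ℕ}

/-- the group `SL(V)` -/
noncomputable def SLu (K : Type u) [Field K] (V : Type v) [AddCommGroup V] [Module K V] : Subgroup (R K V)ˣ :=
  (Units.map (LinearMap.det : R K V →* K)).ker

omit [Finite K] [Module.Finite K V] in
theorem mem_SLu {y : (R K V)ˣ} : y ∈ SLu K V ↔ LinearMap.det (y : R K V) = 1 := by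
  rw [SLu, MonoidHom.mem_ker, Units.ext_iff]
  rfl

/-- multiplication of a unit by a scalar -/
def smulU (c : Kˣ) (y : (R K V)ˣ) : (R K V)ˣ :=
  ⟨(c : K) • (y : R K V), ((c⁻¹ : Kˣ) : K) • ((y⁻¹ : (R K V)ˣ) : R K V), by simp [smul_smul], by simp [smul_smul]⟩

omit [Finite K] in
theorem cj_smulU (c : Kˣ) (y : (R K V)ˣ) : cj K V (smulU c y) = cj K V y := cj_eq_iff.2 ⟨c, rfl⟩

omit [Finite K] [Module.Finite K V] in
theorem det_smulU (c : Kˣ) (y : (R K V)ˣ) :
    LinearMap.det (smulU c y : R K V) = (c : K) ^ Module.finrank K V * LinearMap.det (y : R K V) := by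
  show LinearMap.det ((c : K) • (y : R K V)) = _
  rw [LinearMap.det_smul]

/-- the elements of `A` lift to `SL(V)` -/
theorem lift_SL (hSN : StmtSN.{u, v}) (hSNc : StmtSNcor.{u, v}) (hD : C6Data S A r a) (hSR : S ≤ RA K V) :
    ∀ f ∈ A, ∃ y : (R K V)ˣ, LinearMap.det (y : R K V) = 1 ∧ cj K V y = f := by
  have hV : 1 ≤ Module.finrank K V := by rw [hD.2.2.1]; exact pow_pos hD.1.pos a
  let n := Module.finrank K V
  let Q : Subgroup Kˣ := (powMonoidHom n : Kˣ →* Kˣ).range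
  have hcyc : IsCyclic (Kˣ ⧸ Q) := isCyclic_of_surjective (QuotientGroup.mk' Q) (QuotientGroup.mk'_surjective Q)
  let U : Subgroup (R K V)ˣ := A.comap (cj K V)
  have key := lift_generic hD (SLu K V) (fun f hf y hy => by
      obtain ⟨y', h1, h2⟩ := conj_det hSN hSNc hV (hSR hf) (mem_SLu.1 hy)
      exact ⟨y', mem_SLu.2 h1, h2⟩) ((cj K V).comp U.subtype) (by
      apply le_antisymm
      · rintro - ⟨u, rfl⟩
        exact u.2
      · intro f hf
        obtain ⟨y, rfl⟩ := hD.2.2.2.2.1 hf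
        exact ⟨⟨y, hf⟩, rfl⟩)
    ((QuotientGroup.mk' Q).comp ((Units.map (LinearMap.det : R K V →* K)).comp U.subtype)) (fun u hu => by
      have h1 : Units.map (LinearMap.det : R K V →* K) u ∈ Q := (QuotientGroup.eq_one_iff _).1 hu
      obtain ⟨c, hc⟩ := h1
      refine ⟨smulU c⁻¹ u, ?_, cj_smulU _ _⟩
      rw [mem_SLu, det_smulU]
      have h2 : (c : K) ^ n = LinearMap.det ((u : (R K V)ˣ) : R K V) := congrArg Units.val hc
      rw [← h2, Units.val_inv_eq_inv_val, inv_pow]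
      exact inv_mul_cancel₀ (pow_ne_zero _ c.ne_zero))
  intro f hf
  obtain ⟨y, hy, h⟩ := key f hf
  exact ⟨y, mem_SLu.1 hy, h⟩

/-- **L-C6mt** -/
theorem five_of (hSN : StmtSN.{u, v}) (hSNc : StmtSNcor.{u, v}) (hD : C6Data S A r a) (hSR : S ≤ RA K V)
    (hS : Group.IsSolvable S) (x : (R K V)ˣ) (hx1 : LinearMap.det (x : R K V) = 1)
    (hx : ∀ f ∈ S, (∀ g ∈ A, f * g = g * f) → cj K V x * f * (cj K V x)⁻¹ ∈ S → f = 1) : Five S :=
  five_of_lift hD hS (lift_SL hSN hSNc hD hSR) x hx1 hx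

end

end Cfsg.Agent.H961.FC
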