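import Cfsg.Agent.H198.FC.DefsB
import Cfsg.Agent.H961.FC.Base

/-!
# S5764, L-C6mt (helper961)

`C6Data S A r a`:
* `cent_inn` : an inner-diagonal automorphism centralizing `A` is in `A`;
* `five_of_lift`, `fiveB_of_lift` : (MT) if the elements of `A` lift to `SL(V)` (to isometries of determinant 1) and
  `C_S(A) ∩ S^x = 1`, then `Five S` (`FiveB b S`).
-/

set_option autoImplicit false

namespace Cfsg.Agent.H961.FC

open Cfsg.Agent.H198.FC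

universe u v

/-- (MT) -/
theorem mt_core {P : Type u} [Group P] {S A : Subgroup P} (hAS : A ≤ S)
    (hab : ∀ f ∈ A, ∀ g ∈ A, f * g = g * f) (hn : ∀ g ∈ S, ∀ f ∈ A, g * f * g⁻¹ ∈ A) {v₁ v₂ v₃ : P} (hv₁ : v₁ ∈ A)
    (hv₂ : v₂ ∈ A) (hv₃ : v₃ ∈ A)
    (hv : ∀ f ∈ S, f * v₁ = v₁ * f → f * v₂ = v₂ * f → f * v₃ = v₃ * f → ∀ g ∈ A, f * g = g * f) (x : P)
    (hx : ∀ f ∈ S, (∀ g ∈ A, f * g = g * f) → x * f * x⁻¹ ∈ S → f = 1) {f : P} (hf : f ∈ S) (h0 : x * f * x⁻¹ ∈ S)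
    (h1 : (x * v₁) * f * (x * v₁)⁻¹ ∈ S) (h2 : (x * v₂) * f * (x * v₂)⁻¹ ∈ S)
    (h3 : (x * v₃) * f * (x * v₃)⁻¹ ∈ S) : f = 1 := by
  have key : ∀ v ∈ A, (x * v) * f * (x * v)⁻¹ ∈ S → f * v = v * f := by
    intro v hv h
    have hc : v * (f * v⁻¹ * f⁻¹) ∈ A := A.mul_mem hv (hn f hf _ (A.inv_mem hv))
    have hc1 : v * (f * v⁻¹ * f⁻¹) = 1 := by
      refine hx _ (hAS hc) (fun g hg => hab _ hc _ hg) ?_
      have e : x * (v * (f * v⁻¹ * f⁻¹)) * x⁻¹ = ((x * v) * f * (x * v)⁻¹) * (x * f * x⁻¹)⁻¹ := by group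
      rw [e]
      exact S.mul_mem h (S.inv_mem h0)
    have e : f * v = (v * (f * v⁻¹ * f⁻¹))⁻¹ * (v * f) := by group
    rw [e, hc1, inv_one, one_mul]
  exact hx f hf (hv f hf (key v₁ hv₁ h1) (key v₂ hv₂ h2) (key v₃ hv₃ h3)) h0

section

variable {K : Type u} [Field K] [Finite K] {V : Type v} [AddCommGroup V] [Module K V] [Module.Finite K V]

instance instFiniteR961 : Finite (R K V) := Module.finite_of_finite K

/-- **L-C6mt** (the elements of `A` lift to `SL(V)`) -/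
theorem five_of_lift {S A : Subgroup (Equiv.Perm (R K V))} {r a : ℕ} (hD : C6Data S A r a)
    (hS : Group.IsSolvable S) (hl : ∀ f ∈ A, ∃ y : (R K V)ˣ, LinearMap.det (y : R K V) = 1 ∧ cj K V y = f)
    (x : (R K V)ˣ) (hx1 : LinearMap.det (x : R K V) = 1)
    (hx : ∀ f ∈ S, (∀ g ∈ A, f * g = g * f) → cj K V x * f * (cj K V x)⁻¹ ∈ S → f = 1) : Five S := by
  obtain ⟨-, -, -, hAS, -, -, -, hab, -, hn, hmin⟩ := hD
  obtain ⟨v₁, hv₁, v₂, hv₂, v₃, hv₃, hv⟩ := exists_three S A hS hAS hab hn hmin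
  obtain ⟨y₁, hy₁, rfl⟩ := hl v₁ hv₁
  obtain ⟨y₂, hy₂, rfl⟩ := hl v₂ hv₂
  obtain ⟨y₃, hy₃, rfl⟩ := hl v₃ hv₃
  refine ⟨![x, x * y₁, x * y₂, x * y₃], ?_, fun f hf h => ?_⟩
  · intro i
    fin_cases i
    · exact hx1
    · simp [hx1, hy₁]
    · simp [hx1, hy₂]
    · simp [hx1, hy₃]
  · have h0 := h 0
    have h1 := h 1
    have h2 := h 2
    have h3 := h 3
    simp only [Matrix.cons_val_zero, Matrix.cons_val_one, Matrix.cons_val, map_mul] at h0 h1 h2 h3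
    exact mt_core hAS hab hn hv₁ hv₂ hv₃ hv (cj K V x) hx hf h0 h1 h2 h3

/-- **L-C6mt**, unitary and symplectic case -/
theorem fiveB_of_lift {b : Cl K V} {S A : Subgroup (Equiv.Perm (R K V))} {r a : ℕ} (hD : C6Data S A r a)
    (hS : Group.IsSolvable S)
    (hl : ∀ f ∈ A, ∃ y : (R K V)ˣ, LinearMap.det (y : R K V) = 1 ∧ b.Isom y ∧ cj K V y = f)
    (x : (R K V)ˣ) (hx1 : LinearMap.det (x : R K V) = 1) (hxi : b.Isom x)
    (hx : ∀ f ∈ S, (∀ g ∈ A, f * g = g * f) → cj K V x * f * (cj K V x)⁻¹ ∈ S → f = 1) : FiveB b S := by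
  obtain ⟨-, -, -, hAS, -, -, -, hab, -, hn, hmin⟩ := hD
  obtain ⟨v₁, hv₁, v₂, hv₂, v₃, hv₃, hv⟩ := exists_three S A hS hAS hab hn hmin
  obtain ⟨y₁, hy₁, hi₁, rfl⟩ := hl v₁ hv₁
  obtain ⟨y₂, hy₂, hi₂, rfl⟩ := hl v₂ hv₂
  obtain ⟨y₃, hy₃, hi₃, rfl⟩ := hl v₃ hv₃
  have hmul : ∀ y : (R K V)ˣ, b.Isom y → b.Isom ((x * y : (R K V)ˣ) : R K V) := by
    intro y hy v w
    rw [Units.val_mul]
    show b.B ((x : R K V) ((y : R K V) v)) ((x : R K V) ((y : R K V) w)) = _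
    rw [hxi, hy]
  refine ⟨![x, x * y₁, x * y₂, x * y₃], ?_, ?_, fun f hf h => ?_⟩
  · intro i
    fin_cases i
    · exact hx1
    · simp [hx1, hy₁]
    · simp [hx1, hy₂]
    · simp [hx1, hy₃]
  · intro i
    fin_cases i
    · exact hxi
    · exact hmul y₁ hi₁
    · exact hmul y₂ hi₂
    · exact hmul y₃ hi₃
  · have h0 := h 0
    have h1 := h 1
    have h2 := h 2
    have h3 := h 3
    simp only [Matrix.cons_val_zero, Matrix.cons_val_one, Matrix.cons_val, map_mul] at h0 h1 h2 h3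
    exact mt_core hAS hab hn hv₁ hv₂ hv₃ hv (cj K V x) hx hf h0 h1 h2 h3

end

end Cfsg.Agent.H961.FC
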