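import Cfsg.Agent.H961.FC.C6Mt

/-!
# S5764, L-C6mt: the structure of `C6Data` (helper961)

* `cj_eq_one` : `cj u = 1` iff `u` is a scalar;
* `exists_char` : the commutator pairing;
* `cent_inn` : `C(A) ∩ IN = A`.
-/

set_option autoImplicit false

namespace Cfsg.Agent.H961.FC

open Cfsg.Agent.H198.FC

universe u v

section

variable {K : Type u} [Field K] {V : Type v} [AddCommGroup V] [Module K V]

theorem exists_scalar_of_commute [Module.Finite K V] {X : R K V} (h : ∀ Y : R K V, X * Y = Y * X) :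
    ∃ c : K, X = c • (1 : R K V) := by
  have h1 : X ∈ Subalgebra.center K (R K V) := by
    rw [Subalgebra.mem_center_iff]
    exact fun Y => (h Y).symm
  rw [Module.End.mem_subalgebraCenter_iff] at h1
  obtain ⟨c, _, hc⟩ := h1
  exact ⟨c, hc.trans rfl⟩

theorem cj_eq_one [Module.Finite K V] {x : (R K V)ˣ} : cj K V x = 1 ↔ ∃ c : K, (x : R K V) = c • (1 : R K V) := by
  constructor
  · intro h
    refine exists_scalar_of_commute fun Y => ?_
    have h1 : (x : R K V) * Y * ((x⁻¹ : (R K V)ˣ) : R K V) = Y := by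
      rw [← cj_apply, h]
      rfl
    calc (x : R K V) * Y = (x : R K V) * Y * ((x⁻¹ : (R K V)ˣ) : R K V) * (x : R K V) := by simp [mul_assoc]
      _ = Y * x := by rw [h1]
  · rintro ⟨c, hc⟩
    apply Equiv.ext
    intro Y
    have h1 : (x : R K V) * Y = Y * x := by rw [hc]; simp
    rw [cj_apply, h1, mul_assoc]
    simp

theorem cj_eq_iff [Module.Finite K V] {x y : (R K V)ˣ} :
    cj K V x = cj K V y ↔ ∃ c : K, (x : R K V) = c • (y : R K V) := by
  have h : cj K V x = cj K V y ↔ cj K V (x * y⁻¹) = 1 := by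
    rw [map_mul, map_inv, mul_inv_eq_one]
  rw [h, cj_eq_one]
  refine exists_congr fun c => ?_
  constructor
  · intro h
    calc (x : R K V) = ((x * y⁻¹ : (R K V)ˣ) : R K V) * y := by simp
      _ = c • (y : R K V) := by rw [h]; simp
  · intro h
    rw [Units.val_mul, h]
    simp

end

section

variable {K : Type u} [Field K] {V : Type v} [AddCommGroup V] [Module K V] [Module.Finite K V]
  {A : Subgroup (Equiv.Perm (R K V))}

omit [Module.Finite K V] in
theorem smul_right_inj' [Nontrivial V] {c d : K} {y : (R K V)ˣ} (h : c • (y : R K V) = d • (y : R K V)) : c = d := by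
  obtain ⟨v, hv⟩ := exists_ne (0 : V)
  have h1 : c • (y : R K V) v = d • (y : R K V) v := by
    rw [← LinearMap.smul_apply, h, LinearMap.smul_apply]
  have h2 : (y : R K V) v ≠ 0 := by
    intro h0
    apply hv
    have : ((y⁻¹ : (R K V)ˣ) : R K V) ((y : R K V) v) = v := by
      rw [← Module.End.mul_apply, ← Units.val_mul, inv_mul_cancel, Units.val_one, Module.End.one_apply]
    rw [← this, h0, map_zero]
  exact smul_left_injective K h2 h1

/-- the character of `A` given by an inner automorphism centralizing `A` -/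
theorem exists_char [Nontrivial V] (hAI : A ≤ IN K V) (x : (R K V)ˣ)
    (hx : ∀ g ∈ A, cj K V x * g = g * cj K V x) :
    ∃ χ : A →* K, ∀ (y : (R K V)ˣ) (hy : cj K V y ∈ A),
      (x : R K V) * y * ((x⁻¹ : (R K V)ˣ) : R K V) = χ ⟨cj K V y, hy⟩ • (y : R K V) := by
  have h1 : ∀ y : (R K V)ˣ, cj K V y ∈ A → ∃ c : K, (x : R K V) * y * ((x⁻¹ : (R K V)ˣ) : R K V) = c • (y : R K V) := by
    intro y hy
    have h2 : cj K V (x * y * x⁻¹) = cj K V y := by
      rw [map_mul, map_mul, hx _ hy, map_inv, mul_inv_cancel_right]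
    obtain ⟨c, hc⟩ := cj_eq_iff.1 h2
    exact ⟨c, by rw [← hc, Units.val_mul, Units.val_mul]⟩
  have h2 : ∀ f : A, ∃ c : K, ∀ y : (R K V)ˣ, cj K V y = f →
      (x : R K V) * y * ((x⁻¹ : (R K V)ˣ) : R K V) = c • (y : R K V) := by
    intro f
    obtain ⟨y, hy⟩ := hAI f.2
    obtain ⟨c, hc⟩ := h1 y (by rw [hy]; exact f.2)
    refine ⟨c, fun y' hy' => ?_⟩
    obtain ⟨d, hd⟩ := cj_eq_iff.1 (hy'.trans hy.symm)
    rw [hd, mul_smul_comm, smul_mul_assoc, hc, smul_comm]
  choose χ hχ using h2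
  refine ⟨{ toFun := χ, map_one' := ?_, map_mul' := fun f g => ?_ }, fun y hy => hχ ⟨_, hy⟩ y rfl⟩
  · have h3 := hχ 1 1 (map_one _)
    rw [Units.val_one, mul_one, ← Units.val_mul, mul_inv_cancel, Units.val_one] at h3
    apply smul_right_inj' (y := (1 : (R K V)ˣ))
    rw [Units.val_one, ← h3, one_smul]
  · obtain ⟨y, hy⟩ := hAI f.2
    obtain ⟨z, hz⟩ := hAI g.2
    have h3 := hχ f y hy
    have h4 := hχ g z hz
    have h5 := hχ (f * g) (y * z) (by rw [map_mul, hy, hz]; rfl)
    apply smul_right_inj' (y := y * z)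
    rw [← h5, Units.val_mul]
    calc (x : R K V) * (y * z) * ((x⁻¹ : (R K V)ˣ) : R K V)
        = ((x : R K V) * y * ((x⁻¹ : (R K V)ˣ) : R K V)) * ((x : R K V) * z * ((x⁻¹ : (R K V)ˣ) : R K V)) := by
          simp [mul_assoc]
      _ = (χ f * χ g) • ((y : R K V) * z) := by
        rw [h3, h4, smul_mul_assoc, mul_smul_comm, smul_smul]

omit [Module.Finite K V] in
/-- elements commuting with the lifts of `A` are scalars -/
theorem commute_of_span (hsp : Submodule.span K {X : R K V | ∃ x : (R K V)ˣ, (x : R K V) = X ∧ cj K V x ∈ A} = ⊤)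
    {X : R K V} (h : ∀ y : (R K V)ˣ, cj K V y ∈ A → X * y = y * X) (Y : R K V) : X * Y = Y * X := by
  have hY : Y ∈ Submodule.span K {X : R K V | ∃ x : (R K V)ˣ, (x : R K V) = X ∧ cj K V x ∈ A} := hsp ▸ Submodule.mem_top
  induction hY using Submodule.span_induction with
  | mem Z hZ =>
    obtain ⟨y, rfl, hy⟩ := hZ
    exact h y hy
  | zero => simp
  | add Z W _ _ hZ hW => rw [mul_add, add_mul, hZ, hW]
  | smul c Z _ hZ => rw [mul_smul_comm, smul_mul_assoc, hZ]

/-- two inner automorphisms centralizing `A` with the same character are equal -/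
theorem eq_of_char (hsp : Submodule.span K {X : R K V | ∃ x : (R K V)ˣ, (x : R K V) = X ∧ cj K V x ∈ A} = ⊤)
    (x x' : (R K V)ˣ) (h : ∀ y : (R K V)ˣ, cj K V y ∈ A →
      (x : R K V) * y * ((x⁻¹ : (R K V)ˣ) : R K V) = (x' : R K V) * y * ((x'⁻¹ : (R K V)ˣ) : R K V)) :
    cj K V x = cj K V x' := by
  have h1 : cj K V (x'⁻¹ * x) = 1 := by
    rw [cj_eq_one]
    refine exists_scalar_of_commute (commute_of_span hsp fun y hy => ?_)
    have h2 := h y hy
    calc ((x'⁻¹ * x : (R K V)ˣ) : R K V) * y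
        = ((x'⁻¹ : (R K V)ˣ) : R K V) * ((x : R K V) * y * ((x⁻¹ : (R K V)ˣ) : R K V)) * x := by
          simp [mul_assoc]
      _ = ((x'⁻¹ : (R K V)ˣ) : R K V) * ((x' : R K V) * y * ((x'⁻¹ : (R K V)ˣ) : R K V)) * x := by rw [h2]
      _ = y * ((x'⁻¹ * x : (R K V)ˣ) : R K V) := by simp [mul_assoc]
  rw [map_mul, map_inv, inv_mul_eq_one] at h1
  exact h1.symm

omit [Module.Finite K V] in
theorem nontrivial_of {r a : ℕ} (hr : r.Prime) (h : Module.finrank K V = r ^ a) : Nontrivial V := by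
  apply Module.nontrivial_of_finrank_pos (R := K)
  rw [h]
  exact pow_pos hr.pos a

/-- `C(A) ∩ IN = A` -/
theorem cent_inn [Finite K] {S : Subgroup (Equiv.Perm (R K V))} {r a : ℕ} (hD : C6Data S A r a)
    {f : Equiv.Perm (R K V)} (hf : f ∈ IN K V) (hfA : ∀ g ∈ A, f * g = g * f) : f ∈ A := by
  classical
  obtain ⟨hr, -, hdim, -, hAI, hcard, -, hab, hsp, -, -⟩ := hD
  have := nontrivial_of hr hdim
  let C : Subgroup (Equiv.Perm (R K V)) := Subgroup.centralizer (A : Set (Equiv.Perm (R K V))) ⊓ IN K V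
  have hC : ∀ g : C, ∃ x : (R K V)ˣ, cj K V x = g ∧ ∃ χ : A →* K, ∀ (y : (R K V)ˣ) (hy : cj K V y ∈ A),
      (x : R K V) * y * ((x⁻¹ : (R K V)ˣ) : R K V) = χ ⟨cj K V y, hy⟩ • (y : R K V) := by
    intro g
    obtain ⟨x, hx⟩ := g.2.2
    refine ⟨x, hx, exists_char hAI x fun h hh => ?_⟩
    rw [hx]
    exact (Subgroup.mem_centralizer_iff.1 g.2.1 h hh).symm
  choose x hx χ hχ using hC
  have hinj : Function.Injective χ := by
    intro g g' h
    apply Subtype.ext
    rw [← hx g, ← hx g']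
    refine eq_of_char hsp _ _ fun y hy => ?_
    rw [hχ _ y hy, hχ _ y hy, h]
  have hfin : Nat.card (A →* K) ≤ Nat.card A := by
    have := Fintype.ofFinite A
    have : Finite (A →* K) := Finite.of_injective (fun f : A →* K => (f : A → K)) DFunLike.coe_injective
    have := Fintype.ofFinite (A →* K)
    have h1 := (linearIndependent_monoidHom A K).fintype_card_le_finrank
    rwa [Module.finrank_fintype_fun_eq_card, ← Nat.card_eq_fintype_card, ← Nat.card_eq_fintype_card] at h1
  have : Finite (A →* K) := Finite.of_injective (fun f : A →* K => (f : A → K)) DFunLike.coe_injective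
  have hle : Nat.card C ≤ Nat.card A := (Nat.card_le_card_of_injective χ hinj).trans hfin
  have hAC : A ≤ C := fun g hg => ⟨Subgroup.mem_centralizer_iff.2 fun h hh => hab h hh g hg, hAI hg⟩
  have : A = C := Subgroup.eq_of_le_of_card_ge hAC hle
  rw [this]
  exact ⟨Subgroup.mem_centralizer_iff.2 fun h hh => (hfA h hh).symm, hf⟩

end

end Cfsg.Agent.H961.FC
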